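import Groth.Agent.Lib.AcyN18.Main
import Groth.Agent.Lib.EtSite.PushExact
import Groth.Agent.Lib.EtSite.PushStalk
import Groth.Agent.Lib.EtDer.Henselian
import Groth.Agent.Lib.GalCd.PtSupp
import Groth.Agent.Lib.ConstrCpt.Descent
import Mathlib.FieldTheory.IsAlgClosed.AlgebraicClosure

/-!
# Higher cohomology under integral surjective maps that are isomorphisms away from closed points
-/

set_option autoImplicit false
set_option backward.isDefEq.respectTransparency false
set_option backward.isDefEq.respectTransparency.types false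
set_option linter.style.haveILetI false

universe u

open CategoryTheory CategoryTheory.Limits CategoryTheory.Abelian AlgebraicGeometry Opposite
open GrothLib.EtSite GrothLib.EtColim

noncomputable section

namespace GrothLib.HpullIntegral18

variable {X Y : Scheme.{u}} (f : X ⟶ Y)

/-- Over an open where `f` is an isomorphism, geometric points lift uniquely. -/
theorem existsUnique_lift_of_isIso_restrict (V : Y.Opens) [IsIso (f ∣_ V)] {Ω : Type u} [Field Ω]
    (ξ : Spec (CommRingCat.of Ω) ⟶ Y) (hξ : ξ.base default ∈ V) :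
    ∃! ζ : Spec (CommRingCat.of Ω) ⟶ X, ζ ≫ f = ξ := by
  have hr : Set.range ξ ⊆ Set.range V.ι := by
    rw [Scheme.Opens.range_ι]
    rintro _ ⟨p, rfl⟩
    rw [Unique.eq_default p]
    exact hξ
  let ξ₁ := IsOpenImmersion.lift V.ι ξ hr
  refine ⟨ξ₁ ≫ inv (f ∣_ V) ≫ (f ⁻¹ᵁ V).ι, ?_, fun ζ hζ => ?_⟩
  · dsimp only
    rw [Category.assoc, Category.assoc, ← morphismRestrict_ι f V, IsIso.inv_hom_id_assoc,
      IsOpenImmersion.lift_fac]
  · have hr' : Set.range ζ ⊆ Set.range (f ⁻¹ᵁ V).ι := by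
      rw [Scheme.Opens.range_ι]
      rintro _ ⟨p, rfl⟩
      rw [Unique.eq_default p]
      change (ζ ≫ f).base default ∈ V
      rw [hζ]
      exact hξ
    let ζ₁ := IsOpenImmersion.lift (f ⁻¹ᵁ V).ι ζ hr'
    have e : ζ₁ ≫ f ∣_ V = ξ₁ := by
      rw [← cancel_mono V.ι, Category.assoc, morphismRestrict_ι, IsOpenImmersion.lift_fac_assoc, hζ,
        IsOpenImmersion.lift_fac]
    rw [← e, Category.assoc, IsIso.hom_inv_id_assoc, IsOpenImmersion.lift_fac]

variable [IsIntegralHom f]

/-- The cokernel of the unit has no stalks over such an open. -/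
theorem isZero_stalk_cokernel_unit (V : Y.Opens) [IsIso (f ∣_ V)] (F : EtCoh.Ab Y) {Ω : Type u}
    [Field Ω] [IsSepClosed Ω] (ξ : Spec (CommRingCat.of Ω) ⟶ Y) (hξ : ξ.base default ∈ V) :
    IsZero ((EtCoh.stalk ξ).obj (cokernel ((EtCoh.pullPushAdj f).unit.app F))) := by
  let Ω₀ := AlgebraicClosure Ω
  let ξ₀ : Spec (CommRingCat.of Ω₀) ⟶ Y :=
    Spec.map (CommRingCat.ofHom (algebraMap Ω Ω₀)) ≫ ξ
  have h₀ : ξ₀.base default = ξ.base default :=
    congrArg ξ.base (Subsingleton.elim (α := Spec (CommRingCat.of Ω)) _ _)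
  refine GrothLib.ConstrCpt.isZero_stalk_of_same ξ ξ₀ h₀ ?_
  obtain ⟨ζ, hζ : ζ ≫ f = ξ₀, huniq⟩ := existsUnique_lift_of_isIso_restrict f V ξ₀ (h₀ ▸ hξ)
  let u := (EtCoh.pullPushAdj f).unit.app F
  have hev : (EtCoh.stalk (ζ ≫ f)).map u ≫ ev f ζ rfl ((EtCoh.pull f).obj F) =
      (pullStalkIso ζ f).inv.app F := by
    have hn := (pullStalkIso ζ f).inv.naturality u
    simp only [ev, eqToHom_refl, Category.id_comp]
    refine (Category.assoc _ _ _).symm.trans ((congrArg (· ≫ _) hn).trans ((Category.assoc _ _ _).trans ?_))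
    refine Eq.trans (congrArg (_ ≫ ·) ?_) (Category.comp_id _)
    change (EtCoh.stalk ζ).map ((EtCoh.pull f).map u) ≫ _ = _
    rw [← Functor.map_comp]
    exact (congrArg _ ((EtCoh.pullPushAdj f).left_triangle_components F)).trans ((EtCoh.stalk ζ).map_id _)
  have hsurj : Function.Surjective ((EtCoh.stalk (ζ ≫ f)).map u) := fun p => by
    obtain ⟨q, hq⟩ := ((ConcreteCategory.isIso_iff_bijective ((pullStalkIso ζ f).inv.app F)).1 inferInstance).2
      (ev f ζ rfl ((EtCoh.pull f).obj F) p)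
    refine ⟨q, ev_jointly_injective f _ _ _ fun ζ' hζ' => ?_⟩
    obtain rfl : ζ' = ζ := huniq ζ' (hζ'.trans hζ)
    exact (congrArg (fun k => k q) hev).trans hq
  rw [← hζ]
  haveI : Epi ((EtCoh.stalk (ζ ≫ f)).map u) := (AddCommGrpCat.epi_iff_surjective _).2 hsurj
  refine IsZero.of_epi_eq_zero ((EtCoh.stalk (ζ ≫ f)).map (cokernel.π u)) ?_
  rw [← cancel_epi ((EtCoh.stalk (ζ ≫ f)).map u), ← Functor.map_comp, cokernel.condition, comp_zero,
    Functor.map_zero]

/-- Pulling back along an integral surjection which is an isomorphism over an open containing the non-closed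
points is bijective in degrees at least two. -/
theorem Hpull_bijective [Surjective f] [AlgebraicGeometry.IsNoetherian Y]
    [PreservesFiniteLimits (EtCoh.pull f)]
    (hsep : ∀ y : Y, IsClosed ({y} : Set Y) → IsSepClosed (Y.residueField y))
    (V : Y.Opens) [IsIso (f ∣_ V)] (hV : ∀ y : Y, ¬ IsClosed ({y} : Set Y) → y ∈ V)
    (F : EtCoh.Ab Y) (q : ℕ) (hq : 2 ≤ q) :
    Function.Bijective (EtCore.Hpull f F q) := by
  haveI := GrothLib.AcyN18.pushAdd f
  let u := (EtCoh.pullPushAdj f).unit.app F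
  haveI : Mono u := GrothLib.EtDer.mono_unit_of_surjective f F
  let S := ShortComplex.mk u (cokernel.π u) (cokernel.condition u)
  have hS : S.ShortExact := { exact := S.exact_of_g_is_cokernel (cokernelIsCokernel _) }
  have hC : ∀ n : ℕ, 1 ≤ n → ∀ x : EtCoh.H Y S.X₃ n, x = 0 := fun n hn x =>
    GrothLib.GalCd.H_eq_zero_of_supp_closedPts hsep S.X₃
      (fun Ω _ _ ξ hnc => isZero_stalk_cokernel_unit f V F ξ (hV _ hnc)) n hn x
  have hu : Function.Bijective (fun x : EtCoh.H Y F q => x.comp (Ext.mk₀ u) (add_zero q)) := by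
    refine ⟨fun a b hab => ?_, fun y => ?_⟩
    · have h0 : (a - b).comp (Ext.mk₀ S.f) (add_zero q) = 0 := by
        rw [sub_eq_add_neg, Ext.add_comp, Ext.neg_comp]
        exact add_neg_eq_zero.2 hab
      obtain ⟨w, hw⟩ := Ext.covariant_sequence_exact₁ _ hS (a - b) h0 (n₀ := q - 1) (by omega)
      rw [hC (q - 1) (by omega) w, Ext.zero_comp] at hw
      exact sub_eq_zero.1 hw.symm
    · obtain ⟨x, hx⟩ := Ext.covariant_sequence_exact₂ _ hS y (hC q (by omega) _)
      exact ⟨x, hx⟩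
  have hA := (GrothLib.AcyN18.adjMap_range (EtCoh.pullPushAdj f) (EtCoh.const Y ℤ) q ((EtCoh.pull f).obj F)
    fun r _ => isZero_Rpush_of_integral f _ (r + 1) r.succ_pos).1
  have e : ⇑(EtCore.Hpull f F q) =
      (fun z : Ext.{u + 1} _ _ q => (Ext.mk₀ (EtCore.pullConst f ℤ).inv).comp z (zero_add q)) ∘
        ⇑(GrothLib.ExtAdj.adjMap (EtCoh.pullPushAdj f) (EtCoh.const Y ℤ) ((EtCoh.pull f).obj F) q) ∘
          (fun x : EtCoh.H Y F q => x.comp (Ext.mk₀ u) (add_zero q)) :=
    funext fun x => GrothLib.AcyN18.Hpull_eq f F q x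
  rw [e]
  exact (GrothLib.AcyN18.bijective_preMk₀ (EtCore.pullConst f ℤ).symm q).comp (hA.comp hu)

end GrothLib.HpullIntegral18
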